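import Cfsg.Agent.Omega.NO3b.Closed.Count

/-!
# THEOREM LOOP (helper450, #21990), part 1: the amalgam `(L₁, L₂)` over `C_G(Z)` and the critical pairs

`S` a Sylow 2-subgroup, `1 ≠ Z ≤ Ω₁(Z(S))`, `C = C_G(Z)`, `L i` (`i : Bool`) two subgroups `≥ C` such that no nontrivial
2-subgroup is normalised by both, `Gr i` (the grid of type `i`) elementary abelian, not FF, `Z ≤ Gr i ≤ O₂(L i)`,
`S ≤ N(Gr i)`; `ml` : (ML) for the subgroups of `O₂(C)` on `⟨Z^{L i}⟩`.

* `Sit` : this situation; `Vz i = ⟨Z^{L i}⟩ ≤ W i = ⟨Gr i^{L i}⟩`, elementary abelian;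
* `Dst L n i x j y` : the vertices `(i, x)`, `(j, y)` have a path of length `n`; vertex `(i, x)` = the conjugate `L i ^ x`,
  edge `x` = the point `Z ^ x`;
* `Sit.exists_crit` : critical pairs exist; `Sit.le_o2C` : (1).
-/

set_option autoImplicit false
set_option linter.unusedSectionVars false

namespace Cfsg.Agent.Omega.NOThreeL.Loop

open Subgroup Cfsg Cfsg.Agent.ZN Cfsg.Agent.ZN.ChoiceBase Cfsg.Agent.ZN.ChoiceSit
open Cfsg.Agent.Omega.NO3b.EZero
open Cfsg.Agent.Omega.NO3b.ClosedPt (norm_cent norm_inf norm_of cj_mem cj_mem' cent_mono comm_of_cent rel_ne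
  rel_pos rel_left rel_right rel_congr greedy_step norm_o2 o2_le_of o2_le_odd)

universe u

variable {G : Type u} [Group G]

/-- The situation of THEOREM LOOP. -/
structure Sit [Finite G] (S : Sylow 2 G) (Z : Subgroup G) (L Gr : Bool → Subgroup G) : Prop where
  Zne : Z ≠ ⊥
  SZ : (S : Subgroup G) ≤ centralizer (Z : Set G)
  ZG : ∀ i, Z ≤ Gr i
  CL : ∀ i, centralizer (Z : Set G) ≤ L i
  GO : ∀ i, Gr i ≤ o2 (L i)
  SG : ∀ i, (S : Subgroup G) ≤ normalizer (Gr i : Set G)
  sq : ∀ i, ∀ v ∈ Gr i, v * v = 1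
  nf : ∀ i, NotFF (Gr i)
  nonloc : ∀ R : Subgroup G, IsPGroup 2 R → L true ≤ normalizer (R : Set G) → L false ≤ normalizer (R : Set G) → R = ⊥
  ml : ∀ i, ∀ A ≤ o2 (centralizer (Z : Set G)), (∀ a ∈ A, a * a = 1) →
    (centralizer (cl Z (L i) : Set G)).relIndex A ≤ (centralizer (A : Set G)).relIndex (cl Z (L i))

/-! ### paths -/

/-- a path of length `n` between the vertices `(i, x)` and `(j, y)` -/
def Dst (L : Bool → Subgroup G) : ℕ → Bool → G → Bool → G → Prop
  | 0, i, x, j, y => i = j ∧ x⁻¹ * y ∈ L i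
  | n + 1, i, x, j, y => ∃ z, x⁻¹ * z ∈ L i ∧ Dst L n (!i) z j y

section path

variable {L : Bool → Subgroup G} {n : ℕ} {i j : Bool} {x y z : G}

theorem Dst.left (h : Dst L n i x j y) (hz : x⁻¹ * z ∈ L i) : Dst L n i z j y := by
  cases n with
  | zero =>
    refine ⟨h.1, ?_⟩
    have := mul_mem (inv_mem hz) h.2
    rwa [mul_inv_rev, inv_inv, mul_assoc, mul_inv_cancel_left] at this
  | succ n =>
    obtain ⟨w, hw, h'⟩ := h
    refine ⟨w, ?_, h'⟩
    have := mul_mem (inv_mem hz) hw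
    rwa [mul_inv_rev, inv_inv, mul_assoc, mul_inv_cancel_left] at this

theorem Dst.right (h : Dst L n i x j y) (hz : y⁻¹ * z ∈ L j) : Dst L n i x j z := by
  induction n generalizing i x with
  | zero =>
    obtain ⟨rfl, h1⟩ := h
    refine ⟨rfl, ?_⟩
    have := mul_mem h1 hz
    rwa [mul_assoc, mul_inv_cancel_left] at this
  | succ n ih =>
    obtain ⟨w, hw, h'⟩ := h
    exact ⟨w, hw, ih h'⟩

theorem Dst.snoc (h : Dst L n i x j y) : Dst L (n + 1) i x (!j) y := by
  induction n generalizing i x with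
  | zero =>
    obtain ⟨rfl, h1⟩ := h
    exact ⟨y, h1, rfl, by rw [inv_mul_cancel]; exact one_mem _⟩
  | succ n ih =>
    obtain ⟨w, hw, h'⟩ := h
    exact ⟨w, hw, ih h'⟩

theorem Dst.symm (h : Dst L n i x j y) : Dst L n j y i x := by
  induction n generalizing i x with
  | zero =>
    obtain ⟨rfl, h1⟩ := h
    refine ⟨rfl, ?_⟩
    have := inv_mem h1
    rwa [mul_inv_rev, inv_inv] at this
  | succ n ih =>
    obtain ⟨w, hw, h'⟩ := h
    have h1 := (ih h').snoc
    rw [Bool.not_not] at h1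
    refine h1.right ?_
    have := inv_mem hw
    rwa [mul_inv_rev, inv_inv] at this

theorem Dst.mul_left (g : G) (h : Dst L n i x j y) : Dst L n i (g * x) j (g * y) := by
  induction n generalizing i x with
  | zero =>
    obtain ⟨rfl, h1⟩ := h
    refine ⟨rfl, ?_⟩
    have e : (g * x)⁻¹ * (g * y) = x⁻¹ * y := by group
    rwa [e]
  | succ n ih =>
    obtain ⟨w, hw, h'⟩ := h
    refine ⟨g * w, ?_, ih h'⟩
    have e : (g * x)⁻¹ * (g * w) = x⁻¹ * w := by group
    rwa [e]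

/-- every element of `⟨L₁, L₂⟩` is connected to `1` -/
theorem exists_dst (hx : x ∈ L true ⊔ L false) : (∃ n, Dst L n true 1 true x) ∧ ∃ n, Dst L n true 1 false x := by
  have h1 : ∀ i, ∀ g ∈ L i, ∀ y, ((∃ n, Dst L n true 1 true y) ∧ ∃ n, Dst L n true 1 false y) →
      ((∃ n, Dst L n true 1 true (y * g)) ∧ ∃ n, Dst L n true 1 false (y * g)) := by
    intro i g hg y hy
    have h2 : ∃ n, Dst L n true 1 i y := by
      cases i
      · exact hy.2
      · exact hy.1
    obtain ⟨n, hn⟩ := h2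
    have h3 : Dst L n true 1 i (y * g) := hn.right (by rw [inv_mul_cancel_left]; exact hg)
    have h4 := h3.snoc
    cases i
    · exact ⟨⟨_, h4⟩, ⟨_, h3⟩⟩
    · exact ⟨⟨_, h3⟩, ⟨_, h4⟩⟩
  have h0 : (∃ n, Dst L n true 1 true (1 : G)) ∧ ∃ n, Dst L n true 1 false (1 : G) := by
    have h2 : Dst L 0 true 1 true (1 : G) := ⟨rfl, by rw [inv_mul_cancel]; exact one_mem _⟩
    exact ⟨⟨_, h2⟩, ⟨_, h2.snoc⟩⟩
  have h2 : ∀ i, ∀ g ∈ L i, ∀ y, ((∃ n, Dst L n true 1 true y) ∧ ∃ n, Dst L n true 1 false y) ↔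
      ((∃ n, Dst L n true 1 true (y * g)) ∧ ∃ n, Dst L n true 1 false (y * g)) := by
    intro i g hg y
    refine ⟨h1 i g hg y, fun h => ?_⟩
    have h3 := h1 i g⁻¹ (inv_mem hg) _ h
    rwa [mul_inv_cancel_right] at h3
  rw [sup_eq_closure] at hx
  have key : ∀ w ∈ closure ((L true : Set G) ∪ (L false : Set G)), ∀ y,
      ((∃ n, Dst L n true 1 true y) ∧ ∃ n, Dst L n true 1 false y) ↔
      ((∃ n, Dst L n true 1 true (y * w)) ∧ ∃ n, Dst L n true 1 false (y * w)) := by
    intro w hw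
    induction hw using closure_induction with
    | mem w hw =>
      intro y
      rcases hw with hw | hw
      · exact h2 true w hw y
      · exact h2 false w hw y
    | one => intro y; rw [mul_one]
    | mul a b _ _ iha ihb =>
      intro y
      rw [← mul_assoc]
      exact (iha _).trans (ihb _)
    | inv a _ iha =>
      intro y
      have h3 := iha (y * a⁻¹)
      rw [inv_mul_cancel_right] at h3
      exact h3.symm
  have := (key x hx 1).1 h0
  rwa [one_mul] at this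

end path

/-! ### the groups `Vz i ≤ W i` -/

/-- `⟨Z^{L i}⟩` -/
abbrev Vz (Z : Subgroup G) (L : Bool → Subgroup G) (i : Bool) : Subgroup G := cl Z (L i)

/-- `⟨Gr i^{L i}⟩` -/
abbrev W (L Gr : Bool → Subgroup G) (i : Bool) : Subgroup G := cl (Gr i) (L i)

theorem pow_two_iff {x : G} : x * x = 1 ↔ x ^ 2 = 1 := by rw [pow_two]

theorem comm_of_sq {A : Subgroup G} (h : ∀ a ∈ A, a * a = 1) : A ≤ centralizer (A : Set G) := by
  intro a ha
  rw [mem_centralizer_iff]
  intro b hb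
  have h1 := h _ (mul_mem hb ha)
  have h2 := h _ ha
  have h3 := h _ hb
  have e1 : a⁻¹ = a := inv_eq_of_mul_eq_one_right h2
  have e2 : b⁻¹ = b := inv_eq_of_mul_eq_one_right h3
  have e3 : (b * a)⁻¹ = b * a := inv_eq_of_mul_eq_one_right h1
  rw [← e3, mul_inv_rev, e1, e2]

theorem isPGroup_of_sq {A : Subgroup G} (h : ∀ a ∈ A, a * a = 1) : IsPGroup 2 A := fun x =>
  ⟨1, Subtype.ext (by simpa [pow_two] using h x x.2)⟩

/-- an abelian group generated by elementary abelian groups -/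
theorem sq_of {ι : Sort*} {B : ι → Subgroup G} (hc : ∀ i j, B i ≤ centralizer (B j : Set G))
    (hB : ∀ i, ∀ b ∈ B i, b * b = 1) : ∀ a ∈ ⨆ i, B i, a * a = 1 := by
  have h1 : (⨆ i, B i) ≤ centralizer ((⨆ i, B i : Subgroup G) : Set G) :=
    iSup_le fun i => cent_symm (iSup_le fun j => hc j i)
  intro a ha
  rw [← pow_two]
  exact sq_of_comm h1 (fun i => le_iSup B i) le_rfl (fun i b hb => by rw [pow_two]; exact hB i b hb) a ha

namespace Sit

variable [Finite G] {S : Sylow 2 G} {Z : Subgroup G} {L Gr : Bool → Subgroup G} (s : Sit S Z L Gr)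
include s

theorem S_le (i : Bool) : (S : Subgroup G) ≤ L i := s.SZ.trans (s.CL i)

theorem o2_le_S (i : Bool) : o2 (L i) ≤ (S : Subgroup G) := by
  refine o2_le_odd S.isPGroup' (s.S_le i) fun h => S.not_dvd_index ?_
  rw [← relIndex_mul_index (s.S_le i)]
  exact h.trans (Dvd.intro _ rfl)

theorem Z_le_S : Z ≤ (S : Subgroup G) := (s.ZG true).trans ((s.GO true).trans (s.o2_le_S true))

theorem cj_o2 {i : Bool} {x : G} (hx : x ∈ L i) : cj x (o2 (L i)) = o2 (L i) :=
  mem_normalizer_iff_cj.1 (le_normalizer_o2 _ hx)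

theorem cj_Gr_le {i : Bool} {x : G} (hx : x ∈ L i) : cj x (Gr i) ≤ o2 (L i) := by
  rw [← s.cj_o2 hx]
  exact cj_mono x (s.GO i)

/-- `O₂(L i)` normalises every grid -/
theorem norm_Gr {i : Bool} {x : G} (hx : x ∈ L i) : o2 (L i) ≤ normalizer ((cj x (Gr i) : Subgroup G) : Set G) := by
  rw [← s.cj_o2 hx]
  exact cj_norm ((s.o2_le_S i).trans (s.SG i))

theorem Gr_comm (i : Bool) : Gr i ≤ centralizer (Gr i : Set G) := comm_of_sq (s.sq i)

theorem cj_sq {i : Bool} (x : G) : ∀ a ∈ cj x (Gr i), a * a = 1 := by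
  intro a ha
  have h1 := s.sq i _ (mem_cj.1 ha)
  have e : x⁻¹ * a * x * (x⁻¹ * a * x) = x⁻¹ * (a * a) * x := by group
  rw [e] at h1
  have h2 : a * a = x * 1 * x⁻¹ := by rw [← h1]; group
  rw [h2, mul_one, mul_inv_cancel]

/-- **(0)** two grids of one vertex commute -/
theorem Gr_cj_comm {i : Bool} {x y : G} (hx : x ∈ L i) (hy : y ∈ L i) :
    cj x (Gr i) ≤ centralizer ((cj y (Gr i) : Subgroup G) : Set G) :=
  comm_of_norm ((s.nf i).cj x) ((s.nf i).cj y) (fun a ha => by rw [pow_two]; exact s.cj_sq x a ha)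
    (fun a ha => by rw [pow_two]; exact s.cj_sq y a ha) (comm_of_sq (s.cj_sq x)) (comm_of_sq (s.cj_sq y))
    ((s.cj_Gr_le hx).trans (s.norm_Gr hy)) ((s.cj_Gr_le hy).trans (s.norm_Gr hx))

theorem W_sq (i : Bool) : ∀ a ∈ W L Gr i, a * a = 1 :=
  sq_of (fun x y => s.Gr_cj_comm x.2 y.2) fun x => s.cj_sq (x : G)

theorem W_comm (i : Bool) : W L Gr i ≤ centralizer (W L Gr i : Set G) := comm_of_sq (s.W_sq i)

theorem W_le (i : Bool) : W L Gr i ≤ o2 (L i) := cl_le fun _ hp => s.cj_Gr_le hp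

theorem Vz_le (i : Bool) : Vz Z L i ≤ W L Gr i := cl_le fun p hp => (cj_mono p (s.ZG i)).trans (cj_le_cl hp)

theorem Z_le_W (i : Bool) : Z ≤ W L Gr i := (s.ZG i).trans (le_cl _ _)

theorem o2_le_o2C (i : Bool) : o2 (L i) ≤ o2 (centralizer (Z : Set G)) :=
  le_o2 (isPGroup_o2 _) ((s.o2_le_S i).trans s.SZ) ((s.CL i).trans (le_normalizer_o2 _))

end Sit

/-- the group `W` of the vertex `(i, x)` -/
abbrev Wx (L Gr : Bool → Subgroup G) (i : Bool) (x : G) : Subgroup G := cj x (W L Gr i)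

theorem Wx_eq {L Gr : Bool → Subgroup G} {i : Bool} {x y : G} (h : x⁻¹ * y ∈ L i) : Wx L Gr i x = Wx L Gr i y := by
  have h1 : cj (x⁻¹ * y) (W L Gr i) = W L Gr i := cj_cl h
  have h2 := congrArg (cj x) h1
  rw [cj_cj, mul_inv_cancel_left] at h2
  exact h2.symm

/-- `(i, x)`, `(j, y)` commute -/
def Cm (L Gr : Bool → Subgroup G) (i : Bool) (x : G) (j : Bool) (y : G) : Prop :=
  Wx L Gr i x ≤ centralizer (Wx L Gr j y : Set G)

/-- all pairs of vertices of distance `< b` commute -/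
def Low (L Gr : Bool → Subgroup G) (b : ℕ) : Prop :=
  ∀ n < b, ∀ i x j y, Dst L n i x j y → Cm L Gr i x j y

/-- a critical pair -/
structure Crit (L Gr : Bool → Subgroup G) (b : ℕ) (i : Bool) (x : G) (j : Bool) (y : G) : Prop where
  low : Low L Gr b
  dst : Dst L b i x j y
  ne : ¬ Cm L Gr i x j y

theorem Crit.symm {L Gr : Bool → Subgroup G} {b : ℕ} {i j : Bool} {x y : G} (h : Crit L Gr b i x j y) :
    Crit L Gr b j y i x := ⟨h.low, h.dst.symm, fun h1 => h.ne (cent_symm h1)⟩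

theorem Cm.mul_left {L Gr : Bool → Subgroup G} {i j : Bool} {x y : G} (g : G) (h : Cm L Gr i x j y) :
    Cm L Gr i (g * x) j (g * y) := by
  have h1 := cj_cent (g := g) h
  rwa [cj_cj, cj_cj] at h1

theorem Crit.mul_left {L Gr : Bool → Subgroup G} {b : ℕ} {i j : Bool} {x y : G} (h : Crit L Gr b i x j y) (g : G) :
    Crit L Gr b i (g * x) j (g * y) := by
  refine ⟨h.low, h.dst.mul_left g, fun h1 => h.ne ?_⟩
  have h2 := h1.mul_left g⁻¹
  rwa [inv_mul_cancel_left, inv_mul_cancel_left] at h2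

theorem Crit.left {L Gr : Bool → Subgroup G} {b : ℕ} {i j : Bool} {x y z : G} (h : Crit L Gr b i x j y)
    (hz : x⁻¹ * z ∈ L i) : Crit L Gr b i z j y := by
  refine ⟨h.low, h.dst.left hz, fun h1 => h.ne ?_⟩
  unfold Cm at h1 ⊢
  rwa [Wx_eq hz]

namespace Sit

variable [Finite G] {S : Sylow 2 G} {Z : Subgroup G} {L Gr : Bool → Subgroup G} (s : Sit S Z L Gr)
include s

/-- **Critical pairs exist.** -/
theorem exists_crit : ∃ b i x j y, Crit L Gr b i x j y := by
  classical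
  by_cases hall : ∀ n i x j y, Dst L n i x j y → Cm L Gr i x j y
  · exfalso
    set X := L true ⊔ L false with hX
    have hcon : ∀ i, ∀ x ∈ X, ∃ n, Dst L n true 1 i x := by
      intro i x hx
      have h1 := exists_dst (L := L) hx
      cases i
      · exact h1.2
      · exact h1.1
    have hcm : ∀ i j, ∀ x ∈ X, ∀ y ∈ X, Cm L Gr i x j y := by
      have h1 : ∀ i j, ∀ y ∈ X, Cm L Gr i 1 j y := by
        intro i j y hy
        obtain ⟨n, hn⟩ := hcon j y hy
        cases i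
        · have h2 : Dst L 1 true 1 false (1 : G) :=
            (show Dst L 0 true 1 true (1 : G) from ⟨rfl, by rw [inv_mul_cancel]; exact one_mem _⟩).snoc
          exact hall _ _ _ _ _ (show Dst L (n + 1) false 1 j y from ⟨1, by rw [inv_mul_cancel]; exact one_mem _, hn⟩)
        · exact hall _ _ _ _ _ hn
      intro i j x hx y hy
      have h2 := (h1 i j (x⁻¹ * y) (mul_mem (inv_mem hx) hy)).mul_left x
      rwa [mul_one, mul_inv_cancel_left] at h2
    let B : Bool × X → Subgroup G := fun p => Wx L Gr p.1 p.2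
    have hB : ∀ p q, B p ≤ centralizer (B q : Set G) := fun p q => hcm p.1 q.1 _ p.2.2 _ q.2.2
    have hsq : ∀ p, ∀ b ∈ B p, b * b = 1 := by
      intro p b hb
      have h1 := s.W_sq p.1 _ (mem_cj.1 hb)
      have e : (p.2 : G)⁻¹ * b * p.2 * ((p.2 : G)⁻¹ * b * p.2) = (p.2 : G)⁻¹ * (b * b) * p.2 := by group
      rw [e] at h1
      have h2 : b * b = p.2 * 1 * (p.2 : G)⁻¹ := by rw [← h1]; group
      rw [h2, mul_one, mul_inv_cancel]
    have hR : IsPGroup 2 (⨆ p, B p : Subgroup G) := isPGroup_of_sq (sq_of hB hsq)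
    have hN : X ≤ normalizer ((⨆ p, B p : Subgroup G) : Set G) := by
      refine fun g hg => mem_normalizer_of_cj_le ?_
      rw [cj_iSup]
      refine iSup_le fun p => ?_
      have h1 : cj g (B p) = B (p.1, ⟨g * p.2, mul_mem hg p.2.2⟩) := cj_cj _ _ _
      rw [h1]
      exact le_iSup B _
    have h0 := s.nonloc _ hR (le_sup_left.trans hN) (le_sup_right.trans hN)
    apply s.Zne
    rw [eq_bot_iff, ← h0]
    refine (s.Z_le_W true).trans ?_
    have h1 : B (true, 1) = W L Gr true := cj_one _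
    rw [← h1]
    exact le_iSup B _
  · push Not at hall
    have hex : ∃ n, ∃ i x j y, Dst L n i x j y ∧ ¬ Cm L Gr i x j y := by
      obtain ⟨n, i, x, j, y, h1, h2⟩ := hall
      exact ⟨n, i, x, j, y, h1, h2⟩
    obtain ⟨i, x, j, y, h1, h2⟩ := Nat.find_spec hex
    refine ⟨Nat.find hex, i, x, j, y, ?_, h1, h2⟩
    intro n hn i' x' j' y' h'
    by_contra h3
    exact Nat.find_min hex hn ⟨i', x', j', y', h', h3⟩

/-- `C_G(W) ∩ O₂(C) ≤ O₂(L i)` -/
theorem inf_le_o2 (i : Bool) {A : Subgroup G} (hA : A ≤ o2 (centralizer (Z : Set G)))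
    (hc : A ≤ centralizer (Vz Z L i : Set G)) : A ≤ o2 (L i) := by
  set K := centralizer (Vz Z L i : Set G) with hK
  have hKC : K ≤ centralizer (Z : Set G) := cent_mono (le_cl _ _)
  have hKL : L i ≤ normalizer (K : Set G) := norm_cent (le_normalizer_cl _ _)
  refine (le_inf hA hc).trans ?_
  refine le_trans ?_ (o2_le_of (hKC.trans (s.CL i)) hKL)
  refine le_o2 ((isPGroup_o2 _).to_le inf_le_left) inf_le_right ?_
  exact norm_inf (hKC.trans (le_normalizer_o2 _)) le_normalizer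

/-- **(1)** on a critical pair: `W_β ≤ O₂(C_z)` for the first edge `z` of a path of length `≤ b` to `β`. -/
theorem le_o2C {b : ℕ} (hb : Low L Gr b) {n : ℕ} (hn : n < b) {i j : Bool} {z y : G} (h : Dst L n (!i) z j y) :
    Wx L Gr j y ≤ cj z (o2 (centralizer (Z : Set G))) := by
  induction n generalizing i z with
  | zero =>
    obtain ⟨rfl, h1⟩ := h
    rw [← Wx_eq h1]
    exact cj_mono z ((s.W_le _).trans (s.o2_le_o2C _))
  | succ n ih =>
    obtain ⟨w, hw, h'⟩ := h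
    have h1 := ih (Nat.lt_of_succ_lt hn) (i := !i) (z := w) h'
    have h2 : Cm L Gr (!i) z j y := hb _ hn _ _ _ _ ⟨w, hw, h'⟩
    have h3 : Wx L Gr j y ≤ centralizer (Wx L Gr (!i) w : Set G) := by
      rw [← Wx_eq hw]
      exact cent_symm h2
    have h4 : cj w⁻¹ (Wx L Gr j y) ≤ o2 (L (!i)) := by
      refine s.inf_le_o2 _ ?_ ?_
      · rw [cj_le_iff, inv_inv]
        exact h1
      · have h5 := cj_cent (g := w⁻¹) h3
        rw [cj_inv_cj] at h5
        exact h5.trans (cent_mono (s.Vz_le _))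
    have h6 : Wx L Gr j y ≤ cj w (o2 (L (!i))) := by
      rw [cj_le_iff] at h4
      rwa [inv_inv] at h4
    have h7 : cj w (o2 (L (!i))) = cj z (o2 (L (!i))) := by
      have h8 := s.cj_o2 hw
      have h9 := congrArg (cj z) h8
      rwa [cj_cj, mul_inv_cancel_left] at h9
    rw [h7] at h6
    exact h6.trans (cj_mono z (s.o2_le_o2C _))

/-- the distance of a critical pair is positive -/
theorem pos {b : ℕ} {i j : Bool} {x y : G} (h : Crit L Gr b i x j y) : 0 < b := by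
  rcases Nat.eq_zero_or_pos b with rfl | h0
  · exfalso
    obtain ⟨rfl, h1⟩ := h.dst
    apply h.ne
    unfold Cm
    rw [← Wx_eq h1]
    exact cj_cent (s.W_comm i)
  · exact h0

/-- **(1)** A critical pair can be moved so that `1` is the first edge and `W_β ≤ O₂(C_G(Z))`. -/
theorem crit_edge {b : ℕ} {i j : Bool} {x y : G} (h : Crit L Gr b i x j y) :
    ∃ z, x⁻¹ * z ∈ L i ∧ Wx L Gr j y ≤ cj z (o2 (centralizer (Z : Set G))) ∧
      Wx L Gr j y ≤ centralizer (Wx L Gr (!i) z : Set G) := by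
  obtain ⟨c, rfl⟩ := Nat.exists_eq_succ_of_ne_zero (s.pos h).ne'
  obtain ⟨z, hz, h'⟩ := h.dst
  exact ⟨z, hz, s.le_o2C h.low (Nat.lt_succ_self c) h',
    cent_symm (h.low _ (Nat.lt_succ_self c) _ _ _ _ h')⟩

end Sit

end Cfsg.Agent.Omega.NOThreeL.Loop
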