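import Cfsg.Agent.Omega.Tools.OddFix
import Cfsg.Agent.Omega.MinPar
import Cfsg.Agent.Lib.SylowNormalInf

/-!
# KEY LEMMA / THEOREM II of the 3L-T amalgam (bb OMEGA #22226 helper557, #22316 helper139)

`S` Sylow in `L`, `R ⊴ L`, `W` an elementary abelian subgroup normalised by `L`, `Z ≤ W` centralised by `S`,
`C_W(S) ≤ Z`, `L ≤ ⟨M, C_L(Z)⟩` and `M` normalises `S ∩ R`.  Then `S ∩ R` centralises `⟨Z^L⟩`.
-/

set_option autoImplicit false
set_option linter.unusedVariables false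

namespace Cfsg.Agent.Omega.NOThreeL.Loop

open Subgroup Cfsg Cfsg.Agent.ZN Cfsg.Agent.MinSimple.MinParabolic Cfsg.Agent.MinSimple.VModule

universe u

variable {G : Type u} [Group G] [Finite G]

/-- `S ∩ R` has odd index in `R` for `S` Sylow in `L` and `R ⊴ L`. -/
theorem odd_inf {S L R : Subgroup G} (hS : IsPGroup 2 S) (hSL : S ≤ L) (hodd : ¬ 2 ∣ S.relIndex L) (hRL : R ≤ L)
    (hLR : L ≤ normalizer (R : Set G)) : ¬ 2 ∣ (S ⊓ R).relIndex R := by
  have : Fact (Nat.Prime 2) := ⟨Nat.prime_two⟩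
  let T : Sylow 2 L :=
    (hS.comap_of_injective _ L.subtype_injective : IsPGroup 2 (S.subgroupOf L)).toSylow hodd
  have hT : (T : Subgroup L) = S.subgroupOf L := rfl
  have : (R.subgroupOf L).Normal := normal_subgroupOf_of_le_normalizer hLR
  have h2 := Lib.SylowNormalInf.not_dvd_relIndex T (R.subgroupOf L)
  rw [hT, relIndex_subgroupOf hRL] at h2
  rwa [inf_relIndex_right]

/-- `C_W(S ∩ R) = C_W(C_R(Z))`. -/
theorem fix_eq {S L R Z W : Subgroup G} (hS : IsPGroup 2 S) (hSL : S ≤ L) (hodd : ¬ 2 ∣ S.relIndex L) (hRL : R ≤ L)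
    (hLR : L ≤ normalizer (R : Set G)) (hab : ∀ a ∈ W, ∀ b ∈ W, a * b = b * a) (hsq : ∀ a ∈ W, a * a = 1)
    (hLW : L ≤ normalizer (W : Set G)) (hSZ : S ≤ centralizer (Z : Set G))
    (hfix : W ⊓ centralizer (S : Set G) ≤ Z) :
    W ⊓ centralizer ((S ⊓ R : Subgroup G) : Set G) = W ⊓ centralizer ((R ⊓ centralizer (Z : Set G) : Subgroup G) : Set G) := by
  have hle : S ⊓ R ≤ R ⊓ centralizer (Z : Set G) := le_inf inf_le_right (inf_le_left.trans hSZ)
  refine le_antisymm ?_ (inf_le_inf_left _ (centralizer_le hle))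
  have hSX : S ⊓ (R ⊓ centralizer (Z : Set G)) = S ⊓ R := by
    rw [← inf_assoc]
    exact inf_eq_left.2 (inf_le_left.trans hSZ)
  have hoddX : ¬ 2 ∣ (S ⊓ (R ⊓ centralizer (Z : Set G))).relIndex (R ⊓ centralizer (Z : Set G)) := by
    rw [hSX]
    intro h
    apply odd_inf hS hSL hodd hRL hLR
    rw [← relIndex_mul_relIndex (S ⊓ R) (R ⊓ centralizer (Z : Set G)) R hle inf_le_left]
    exact h.mul_right _
  have hn : ∀ t ∈ S, ∀ k ∈ R ⊓ centralizer (Z : Set G), t * k * t⁻¹ ∈ R ⊓ centralizer (Z : Set G) := by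
    intro t ht k hk
    exact ⟨(mem_normalizer_iff.1 (hLR (hSL ht)) _).1 hk.1,
      (centralizer (Z : Set G)).mul_mem ((centralizer (Z : Set G)).mul_mem (hSZ ht) hk.2)
        ((centralizer (Z : Set G)).inv_mem (hSZ ht))⟩
  have h := Tools.OddFix.odd_fix_conj hab hsq (hSL.trans hLW) ((inf_le_left.trans hRL).trans hLW) hS hn hoddX
    (fun w hw hwS k hk => by
      have h1 : w ∈ Z := hfix ⟨hw, mem_centralizer_iff.2 fun t ht => hwS t ht⟩
      exact (mem_centralizer_iff.1 hk.2 w h1).symm)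
  intro w hw
  refine ⟨hw.1, mem_centralizer_iff.2 fun k hk => ?_⟩
  refine h w hw.1 (fun t ht => ?_) k hk
  rw [hSX] at ht
  exact mem_centralizer_iff.1 hw.2 t ht

/-- **KEY LEMMA** (#22226) = **THEOREM II** (#22316). -/
theorem key {S L R M Z W : Subgroup G} (hS : IsPGroup 2 S) (hSL : S ≤ L) (hodd : ¬ 2 ∣ S.relIndex L) (hRL : R ≤ L)
    (hLR : L ≤ normalizer (R : Set G)) (hab : ∀ a ∈ W, ∀ b ∈ W, a * b = b * a) (hsq : ∀ a ∈ W, a * a = 1)
    (hLW : L ≤ normalizer (W : Set G)) (hZW : Z ≤ W) (hSZ : S ≤ centralizer (Z : Set G))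
    (hfix : W ⊓ centralizer (S : Set G) ≤ Z) (hML : M ≤ L) (hM : M ≤ normalizer ((S ⊓ R : Subgroup G) : Set G))
    (hgen : L ≤ M ⊔ (L ⊓ centralizer (Z : Set G))) :
    (∀ l ∈ L, ∀ z ∈ Z, l * z * l⁻¹ ∈ W ⊓ centralizer ((S ⊓ R : Subgroup G) : Set G)) ∧
      S ⊓ R ≤ centralizer ((⨆ l : L, Z.map (MulAut.conj (l : G)).toMonoidHom : Subgroup G) : Set G) := by
  set F : Subgroup G := W ⊓ centralizer ((S ⊓ R : Subgroup G) : Set G) with hF
  have hFe := fix_eq hS hSL hodd hRL hLR hab hsq hLW hSZ hfix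
  have hcen : ∀ {A : Subgroup G} {g : G}, g ∈ normalizer (A : Set G) → g ∈ normalizer (centralizer (A : Set G) : Set G) := by
    intro A g hg
    rw [mem_normalizer_iff'']
    intro x
    constructor
    · intro hx
      refine mem_centralizer_iff.2 fun a ha => ?_
      have h1 := mem_centralizer_iff.1 hx (g * a * g⁻¹) ((mem_normalizer_iff.1 hg a).1 ha)
      have e1 : a * (g⁻¹ * x * g) = g⁻¹ * (g * a * g⁻¹ * x) * g := by group
      rw [e1, h1]
      group
    · intro hx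
      refine mem_centralizer_iff.2 fun a ha => ?_
      have h1 := mem_centralizer_iff.1 hx (g⁻¹ * a * g) ((mem_normalizer_iff''.1 hg a).1 ha)
      have e1 : a * x = g * (g⁻¹ * a * g * (g⁻¹ * x * g)) * g⁻¹ := by group
      rw [e1, h1]
      group
  have hinf : ∀ {A B : Subgroup G} {g : G}, g ∈ normalizer (A : Set G) → g ∈ normalizer (B : Set G) →
      g ∈ normalizer ((A ⊓ B : Subgroup G) : Set G) := by
    intro A B g hA hB
    rw [mem_normalizer_iff] at hA hB ⊢
    intro x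
    exact and_congr (hA x) (hB x)
  have hMF : M ≤ normalizer (F : Set G) := fun m hm => hinf (hLW (hML hm)) (hcen (hM hm))
  have hCF : L ⊓ centralizer (Z : Set G) ≤ normalizer (F : Set G) := by
    intro c hc
    rw [hF, hFe]
    refine hinf (hLW hc.1) (hcen (hinf (hLR hc.1) (hcen ?_)))
    rw [mem_normalizer_iff]
    intro z
    constructor
    · intro hz
      have h1 := mem_centralizer_iff.1 hc.2 z hz
      rw [← h1, mul_inv_cancel_right]
      exact hz
    · intro hz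
      have h1 := mem_centralizer_iff.1 hc.2 _ hz
      have h2 : c * z * c⁻¹ = z := by
        have h3 : c * z * c⁻¹ * c = c * (c * z * c⁻¹) := h1
        have h4 : c * z = c * (c * z * c⁻¹) := by rw [← h3]; group
        exact (mul_left_cancel h4).symm
      rw [h2] at hz
      exact hz
  have hLF : L ≤ normalizer (F : Set G) := hgen.trans (sup_le hMF hCF)
  have hZF : Z ≤ F := by
    refine le_inf hZW fun z hz => mem_centralizer_iff.2 fun t ht => ?_
    exact (mem_centralizer_iff.1 (hSZ (show t ∈ S from ht.1)) z hz).symm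
  have h1 : ∀ l ∈ L, ∀ z ∈ Z, l * z * l⁻¹ ∈ F := fun l hl z hz => (mem_normalizer_iff.1 (hLF hl) z).1 (hZF hz)
  refine ⟨h1, ?_⟩
  rw [le_centralizer_iff]
  refine iSup_le fun l => ?_
  rintro _ ⟨z, hz, rfl⟩
  exact (h1 l l.2 z hz).2

/-- **THEOREM II**, with minimal parabolics: if `S ∩ R` moves `⟨Z^L⟩`, then `R S ≥ P` for some `P` in the generating set,
i.e. every normal subgroup `R` of `L` of even order modulo `C_L(⟨Z^L⟩)` covers some `O²(P)`. -/
theorem exists_par {S : Sylow 2 G} {L R Z W : Subgroup G} (PP : Set (Subgroup G)) (hSL : (S : Subgroup G) ≤ L)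
    (hRL : R ≤ L) (hLR : L ≤ normalizer (R : Set G)) (hab : ∀ a ∈ W, ∀ b ∈ W, a * b = b * a)
    (hsq : ∀ a ∈ W, a * a = 1) (hLW : L ≤ normalizer (W : Set G)) (hZW : Z ≤ W)
    (hSZ : (S : Subgroup G) ≤ centralizer (Z : Set G)) (hfix : W ⊓ centralizer ((S : Subgroup G) : Set G) ≤ Z)
    (hPP : ∀ P ∈ PP, IsMinPar (S : Subgroup G) P) (hPL : ∀ P ∈ PP, P ≤ L)
    (hgen : L ≤ sSup PP ⊔ (L ⊓ centralizer (Z : Set G)))
    {l z d : G} (hl : l ∈ L) (hz : z ∈ Z) (hdS : d ∈ S) (hdR : d ∈ R) (hne : d * (l * z * l⁻¹) ≠ l * z * l⁻¹ * d) :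
    ∃ P ∈ PP, (P ⊓ R) ⊔ (S : Subgroup G) = P := by
  by_contra hcon
  push Not at hcon
  have hodd : ∀ {L : Subgroup G}, (S : Subgroup G) ≤ L → ¬ 2 ∣ (S : Subgroup G).relIndex L := fun h =>
    MinSimple.Basic.not_dvd_relIndex S h
  have hM : sSup PP ≤ normalizer (((S : Subgroup G) ⊓ R : Subgroup G) : Set G) := by
    refine sSup_le fun P hP => ?_
    have h := hPP P hP
    have hN : P ≤ normalizer ((P ⊓ R : Subgroup G) : Set G) := by
      intro p hp
      rw [mem_normalizer_iff]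
      intro x
      refine and_congr ⟨fun hx => P.mul_mem (P.mul_mem hp hx) (P.inv_mem hp), fun hx => ?_⟩
        (mem_normalizer_iff.1 (hLR (hPL P hP hp)) x)
      have h2 : p⁻¹ * (p * x * p⁻¹) * p ∈ P := P.mul_mem (P.mul_mem (P.inv_mem hp) hx) hp
      have e2 : p⁻¹ * (p * x * p⁻¹) * p = x := by group
      rwa [e2] at h2
    rcases h.sup_eq_or_inf_le S.isPGroup' (hodd h.le) inf_le_left hN with h1 | h1
    · exact absurd h1 (hcon P hP)
    -- `S ∩ R = O₂(P) ∩ (P ∩ R)`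
    have hO : o2 P ≤ (S : Subgroup G) := o2_le_of_sylow S.isPGroup' (hodd h.le)
    have h2 : (S : Subgroup G) ⊓ R = o2 P ⊓ (P ⊓ R) := by
      apply le_antisymm
      · exact le_inf ((le_inf inf_le_left (le_inf (inf_le_left.trans h.le) inf_le_right)).trans h1)
          (le_inf (inf_le_left.trans h.le) inf_le_right)
      · exact le_inf (inf_le_left.trans hO) (inf_le_right.trans inf_le_right)
    intro p hp
    rw [h2, mem_normalizer_iff]
    intro x
    exact and_congr (mem_normalizer_iff.1 (le_normalizer_o2 P hp) x) (mem_normalizer_iff.1 (hN hp) x)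
  have h := (key S.isPGroup' hSL (hodd hSL) hRL hLR hab hsq hLW hZW hSZ hfix (sSup_le hPL) hM hgen).1 l hl z hz
  exact hne (mem_centralizer_iff.1 h.2 d ⟨hdS, hdR⟩)

end Cfsg.Agent.Omega.NOThreeL.Loop
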