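import Cfsg.Agent.Omega.NOThreeL.Loop.Def

/-!
# THEOREM LOOP (helper450, #21990), part 2: a critical pair is exact at both ends

* `nf_greedy` : the greedy count over grids which are not FF;
* `End Z L Gr i B` : `B ≤ O₂(C_G(Z))` elementary abelian, `B` moves `W i`, `C_B(Vz i) = C_B(W i)`,
  `|B : C_B(W i)| = |Vz i : C(B)| = |W i : C(B)|`, `B` centralises `W (!i)`;
* `Sit.end_of_crit` : **THEOREM LOOP (3)**;
* `End.gen` : `W i = Vz i C_{W i}(B)`; `End.comm_le` : `[W i, B^c] ≤ Vz i`; `End.sub`, `End.any` : (NO) and (4);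
  `End.cent_grid` : (4) `B` centralises every grid of `W i` which it normalises.
-/

set_option autoImplicit false
set_option linter.unusedSectionVars false

namespace Cfsg.Agent.Omega.NOThreeL.Loop

open Subgroup Cfsg Cfsg.Agent.ZN Cfsg.Agent.ZN.ChoiceBase Cfsg.Agent.ZN.ChoiceSit
open Cfsg.Agent.Omega.NO3b.EZero
open Cfsg.Agent.Omega.NO3b.ClosedPt (norm_cent norm_inf norm_of cj_mem cj_mem' cent_mono comm_of_cent rel_ne
  rel_pos rel_left rel_right rel_congr greedy_step norm_o2 o2_le_of o2_le_odd)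

universe u v

variable {G : Type u} [Group G]

theorem step [Finite G] {V W F : Subgroup G} (hV : V ≤ W) :
    (centralizer (W : Set G)).relIndex F = (centralizer (W : Set G)).relIndex (F ⊓ centralizer (V : Set G)) *
      (centralizer (V : Set G)).relIndex F :=
  greedy_step (ι := Unit) (V := fun _ => V) (fun _ => hV) ()

/-- `|C_W(F') : C_W(F)| |W : C_W(F')| = |W : C_W(F)|` for `F' ≤ F` -/
theorem chain {W F F' : Subgroup G} (h : F' ≤ F) :
    (centralizer (F : Set G)).relIndex (W ⊓ centralizer (F' : Set G)) * (centralizer (F' : Set G)).relIndex W =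
      (centralizer (F : Set G)).relIndex W := by
  have h1 : W ⊓ centralizer (F : Set G) ≤ W ⊓ centralizer (F' : Set G) := inf_le_inf_left _ (cent_mono h)
  have h2 := relIndex_mul_relIndex _ _ _ h1 (inf_le_left : W ⊓ centralizer (F' : Set G) ≤ W)
  rw [inf_relIndex_left, inf_relIndex_left] at h2
  rw [← h2]
  congr 1
  refine rel_congr ?_
  exact le_antisymm (le_inf (le_inf (inf_le_right.trans inf_le_left) inf_le_left) inf_le_right)
    (inf_le_inf_right _ inf_le_right)

/-- **The greedy count over lines which are not FF.** -/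
theorem nf_greedy [Finite G] {ι : Type v} {V : ι → Subgroup G} {W : Subgroup G} (hV : ∀ i, V i ≤ W)
    (hW : W ≤ ⨆ i, V i) (hnf : ∀ i, NotFF (V i)) (E : Subgroup G) (hsq : ∀ e ∈ E, e * e = 1)
    (hN : ∀ i, E ≤ normalizer (V i : Set G)) (hne : ¬ E ≤ centralizer (W : Set G)) :
    (centralizer (W : Set G)).relIndex E < (centralizer (E : Set G)).relIndex W := by
  induction hn : Nat.card E using Nat.strong_induction_on generalizing E with
  | _ n ih =>
    have h1 : ∃ i, ¬ E ≤ centralizer (V i : Set G) := by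
      by_contra h1
      push Not at h1
      exact hne (cent_symm (hW.trans (iSup_le fun i => cent_symm (h1 i))))
    obtain ⟨i, hi⟩ := h1
    set E' := E ⊓ centralizer (V i : Set G) with hE'
    have hlt : Nat.card E' < n := by
      rw [← hn]
      refine lt_of_le_of_ne (Subgroup.card_le_of_le inf_le_left) fun h2 => hi ?_
      have h3 : E' = E := Subgroup.eq_of_le_of_card_ge inf_le_left h2.ge
      rw [← h3]
      exact inf_le_right
    have h2 : (centralizer (W : Set G)).relIndex E' ≤ (centralizer (E' : Set G)).relIndex W := by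
      by_cases hc : E' ≤ centralizer (W : Set G)
      · rw [relIndex_eq_one.2 hc]
        exact rel_pos _ _
      · exact (ih _ hlt E' (fun e he => hsq e he.1) (fun i => inf_le_left.trans (hN i)) hc rfl).le
    have h3 : (centralizer (V i : Set G)).relIndex E < (centralizer (E : Set G)).relIndex (V i) :=
      hnf i E (isPGroup_of_sq hsq) (hN i) (fun a ha => by rw [pow_two, hsq a ha]; exact one_mem _)
        (fun a ha b hb => by
          have e : a * b = b * a := (mem_centralizer_iff.1 (comm_of_sq hsq hb) a ha)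
          rw [e, mul_inv_cancel_right, mul_inv_cancel]; exact one_mem _) hi
    have h4 : V i ≤ W ⊓ centralizer (E' : Set G) := le_inf (hV i) (cent_symm inf_le_right)
    have h5 := rel_right h4 (centralizer (E : Set G))
    rw [step (hV i), ← chain (W := W) (inf_le_left : E' ≤ E), mul_comm]
    exact Nat.mul_lt_mul_of_lt_of_le (h3.trans_le h5) h2 (rel_pos _ _)

/-- An exact end of a critical pair. -/
structure End (Z : Subgroup G) (L Gr : Bool → Subgroup G) (i : Bool) (B : Subgroup G) : Prop where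
  le : B ≤ o2 (centralizer (Z : Set G))
  sq : ∀ b ∈ B, b * b = 1
  ne : ¬ B ≤ centralizer (W L Gr i : Set G)
  cen : B ⊓ centralizer (Vz Z L i : Set G) ≤ centralizer (W L Gr i : Set G)
  ex : (centralizer (W L Gr i : Set G)).relIndex B = (centralizer (B : Set G)).relIndex (Vz Z L i)
  exW : (centralizer (W L Gr i : Set G)).relIndex B = (centralizer (B : Set G)).relIndex (W L Gr i)
  nb : B ≤ centralizer (W L Gr (!i) : Set G)

variable [Finite G] {S : Sylow 2 G} {Z : Subgroup G} {L Gr : Bool → Subgroup G}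

namespace Sit

variable (s : Sit S Z L Gr)
include s

/-- a subgroup of `O₂(L i)` -/
theorem greedy (i : Bool) {E : Subgroup G} (hE : E ≤ o2 (L i)) (hsq : ∀ e ∈ E, e * e = 1)
    (hne : ¬ E ≤ centralizer (W L Gr i : Set G)) :
    (centralizer (W L Gr i : Set G)).relIndex E < (centralizer (E : Set G)).relIndex (W L Gr i) :=
  nf_greedy (V := fun x : L i => cj (x : G) (Gr i)) (fun x => cj_le_cl x.2) le_rfl (fun x => (s.nf i).cj _) E hsq
    (fun x => hE.trans (s.norm_Gr x.2)) hne

/-- **(2)** the count at one end -/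
theorem side (i : Bool) {B : Subgroup G} (hB : B ≤ o2 (centralizer (Z : Set G))) (hsq : ∀ b ∈ B, b * b = 1) :
    (centralizer (W L Gr i : Set G)).relIndex B ≤ (centralizer (B : Set G)).relIndex (W L Gr i) ∧
      ((centralizer (W L Gr i : Set G)).relIndex B = (centralizer (B : Set G)).relIndex (W L Gr i) →
        B ⊓ centralizer (Vz Z L i : Set G) ≤ centralizer (W L Gr i : Set G) ∧
        (centralizer (W L Gr i : Set G)).relIndex B = (centralizer (B : Set G)).relIndex (Vz Z L i)) := by
  set E := B ⊓ centralizer (Vz Z L i : Set G) with hE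
  have hEL : E ≤ o2 (L i) := s.inf_le_o2 i (inf_le_left.trans hB) inf_le_right
  have hEsq : ∀ e ∈ E, e * e = 1 := fun e he => hsq e he.1
  have h1 := s.ml i B hB hsq
  have h2 : (centralizer (W L Gr i : Set G)).relIndex E ≤ (centralizer (E : Set G)).relIndex (W L Gr i) := by
    by_cases hc : E ≤ centralizer (W L Gr i : Set G)
    · rw [relIndex_eq_one.2 hc]
      exact rel_pos _ _
    · exact (s.greedy i hEL hEsq hc).le
  have h3 : Vz Z L i ≤ W L Gr i ⊓ centralizer (E : Set G) := le_inf (s.Vz_le i) (cent_symm inf_le_right)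
  have h4 := rel_right h3 (centralizer (B : Set G))
  have h5 := step (F := B) (s.Vz_le i)
  have h6 := chain (W := W L Gr i) (inf_le_left : E ≤ B)
  rw [← hE] at h5
  set a := (centralizer (W L Gr i : Set G)).relIndex E
  set b := (centralizer (Vz Z L i : Set G)).relIndex B
  set a' := (centralizer (E : Set G)).relIndex (W L Gr i) with ha'
  set b' := (centralizer (B : Set G)).relIndex (Vz Z L i)
  set c' := (centralizer (B : Set G)).relIndex (W L Gr i ⊓ centralizer (E : Set G) : Subgroup G)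
  have ha0 : 0 < a := rel_pos _ _
  have ha0' : 0 < a' := rel_pos _ _
  have hb0 : 0 < b := rel_pos _ _
  constructor
  · rw [h5, ← h6, mul_comm]
    exact Nat.mul_le_mul (h1.trans h4) h2
  · intro he
    rw [h5, ← h6] at he
    have hE1 : E ≤ centralizer (W L Gr i : Set G) := by
      by_contra hc
      have h7 : a < a' := s.greedy i hEL hEsq hc
      have h8 : a * b < c' * a' := by
        rw [mul_comm a b]
        exact Nat.mul_lt_mul_of_le_of_lt (h1.trans h4) h7 (lt_of_lt_of_le hb0 (h1.trans h4))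
      omega
    refine ⟨hE1, ?_⟩
    have h9 : a = 1 := relIndex_eq_one.2 hE1
    have h10 : a' = 1 := relIndex_eq_one.2 (cent_symm hE1)
    rw [h5, h9, one_mul]
    rw [h9, h10, one_mul, mul_one] at he
    exact le_antisymm h1 (by rw [he]; exact h4)

/-- **THEOREM LOOP (3).** -/
theorem end_of_crit {b : ℕ} {i j : Bool} {x y : G} (h : Crit L Gr b i x j y) :
    ∃ z, x⁻¹ * z ∈ L i ∧ End Z L Gr i (Wx L Gr j (z⁻¹ * y)) := by
  -- the count at one end
  have key : ∀ {b : ℕ} {i j : Bool} {x y : G}, Crit L Gr b i x j y →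
      ∃ z, x⁻¹ * z ∈ L i ∧ Wx L Gr j (z⁻¹ * y) ≤ o2 (centralizer (Z : Set G)) ∧
        Wx L Gr j (z⁻¹ * y) ≤ centralizer (W L Gr (!i) : Set G) ∧
        (centralizer (W L Gr i : Set G)).relIndex (Wx L Gr j (z⁻¹ * y)) =
          (centralizer (Wx L Gr i x : Set G)).relIndex (Wx L Gr j y) ∧
        (centralizer (Wx L Gr j (z⁻¹ * y) : Set G)).relIndex (W L Gr i) =
          (centralizer (Wx L Gr j y : Set G)).relIndex (Wx L Gr i x) := by
    intro b i j x y h
    obtain ⟨z, hz, h1, h2⟩ := s.crit_edge h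
    have e1 : cj z (Wx L Gr j (z⁻¹ * y)) = Wx L Gr j y := by
      unfold Wx
      rw [cj_cj, mul_inv_cancel_left]
    refine ⟨z, hz, ?_, ?_, ?_, ?_⟩
    · have h3 := cj_mono z⁻¹ h1
      rw [cj_inv_cj, cj_cj] at h3
      exact h3
    · have h3 := cj_cent (g := z⁻¹) h2
      rw [cj_inv_cj, cj_cj] at h3
      exact h3
    · rw [← relIndex_cj z, cj_centralizer, e1, Wx_eq hz]
    · rw [← relIndex_cj z, cj_centralizer, e1, Wx_eq hz]
  have hsq : ∀ (j : Bool) (g : G), ∀ w ∈ Wx L Gr j g, w * w = 1 := by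
    intro j g w hw
    have h1 := s.W_sq j _ (mem_cj.1 hw)
    have e : g⁻¹ * w * g * (g⁻¹ * w * g) = g⁻¹ * (w * w) * g := by group
    rw [e] at h1
    have h2 : w * w = g * 1 * g⁻¹ := by rw [← h1]; group
    rw [h2, mul_one, mul_inv_cancel]
  obtain ⟨z, hz, h1, h2, h3, h4⟩ := key h
  obtain ⟨z', hz', h1', h2', h3', h4'⟩ := key h.symm
  have h5 := (s.side i h1 (hsq _ _)).1
  have h6 := (s.side j h1' (hsq _ _)).1
  rw [h3, h4] at h5
  rw [h3', h4'] at h6
  have h7 : (centralizer (W L Gr i : Set G)).relIndex (Wx L Gr j (z⁻¹ * y)) =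
      (centralizer (Wx L Gr j (z⁻¹ * y) : Set G)).relIndex (W L Gr i) := by
    rw [h3, h4]
    exact le_antisymm h5 h6
  have h8 := (s.side i h1 (hsq _ _)).2 h7
  refine ⟨z, hz, h1, hsq _ _, ?_, h8.1, h8.2, h7, h2⟩
  intro h9
  apply h.ne
  have h10 := cj_cent (g := z) h9
  have e1 : cj z (Wx L Gr j (z⁻¹ * y)) = Wx L Gr j y := by
    unfold Wx
    rw [cj_cj, mul_inv_cancel_left]
  rw [e1] at h10
  unfold Cm
  rw [Wx_eq hz]
  exact cent_symm h10

/-- **The output of THEOREM LOOP**: a critical pair, both ends. -/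
theorem exists_end : ∃ b i x j y, Crit L Gr b i x j y ∧
    (∃ z, x⁻¹ * z ∈ L i ∧ End Z L Gr i (Wx L Gr j (z⁻¹ * y))) ∧
    ∃ z, y⁻¹ * z ∈ L j ∧ End Z L Gr j (Wx L Gr i (z⁻¹ * x)) := by
  obtain ⟨b, i, x, j, y, h⟩ := s.exists_crit
  exact ⟨b, i, x, j, y, h, s.end_of_crit h, s.end_of_crit h.symm⟩

end Sit

namespace End

variable (s : Sit S Z L Gr) {i : Bool} {B : Subgroup G} (e : End Z L Gr i B)
include s e

theorem le_L : B ≤ L i := e.le.trans ((o2_le _).trans (s.CL i))

theorem norm_W : B ≤ normalizer (W L Gr i : Set G) := (e.le_L s).trans (le_normalizer_cl _ _)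

theorem norm_Vz : B ≤ normalizer (Vz Z L i : Set G) := (e.le_L s).trans (le_normalizer_cl _ _)

/-- `W = Vz C_W(B)` -/
theorem gen : W L Gr i ≤ Vz Z L i ⊔ (W L Gr i ⊓ centralizer (B : Set G)) := by
  set K := W L Gr i ⊓ centralizer (B : Set G) with hK
  have hN : Vz Z L i ≤ normalizer (K : Set G) := by
    refine le_trans ((s.Vz_le i).trans (s.W_comm i)) ?_
    exact (cent_mono inf_le_left).trans (centralizer_le_normalizer _)
  have h1 : Nat.card (K ⊔ Vz Z L i : Subgroup G) * Nat.card (K ⊓ Vz Z L i : Subgroup G) =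
      Nat.card K * Nat.card (Vz Z L i) := NO3b.ClosedPt.card_sup_mul hN
  have h2 : Nat.card (K ⊓ Vz Z L i : Subgroup G) * K.relIndex (Vz Z L i) = Nat.card (Vz Z L i) := by
    rw [← inf_relIndex_right K]
    exact NO3b.ClosedPt.card_mul_relIndex inf_le_right
  have h3 : Nat.card K * K.relIndex (W L Gr i) = Nat.card (W L Gr i) :=
    NO3b.ClosedPt.card_mul_relIndex inf_le_left
  have h4 : K.relIndex (Vz Z L i) = (centralizer (B : Set G)).relIndex (Vz Z L i) := by
    refine rel_congr (le_antisymm (le_inf (inf_le_left.trans inf_le_right) inf_le_right) ?_)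
    exact le_inf (le_inf (inf_le_right.trans (s.Vz_le i)) inf_le_left) inf_le_right
  have h5 : K.relIndex (W L Gr i) = (centralizer (B : Set G)).relIndex (W L Gr i) :=
    inf_relIndex_left _ _
  rw [h4, ← e.ex, e.exW, ← h5] at h2
  have h6 : Nat.card (W L Gr i) ≤ Nat.card (K ⊔ Vz Z L i : Subgroup G) := by
    have h7 : 0 < Nat.card (K ⊓ Vz Z L i : Subgroup G) := Nat.card_pos
    refine Nat.le_of_mul_le_mul_right ?_ h7
    rw [h1, ← h3, ← h2]
    exact le_of_eq (by ring)
  have h8 : K ⊔ Vz Z L i = W L Gr i :=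
    Subgroup.eq_of_le_of_card_ge (sup_le inf_le_left (s.Vz_le i)) h6
  rw [sup_comm, h8]

/-- `[W, B] ≤ Vz` -/
theorem comm_le {b w : G} (hb : b ∈ B) (hw : w ∈ W L Gr i) : b * w * b⁻¹ * w⁻¹ ∈ Vz Z L i := by
  set X : Subgroup G := W L Gr i ⊓ centralizer (B : Set G) with hX
  have h0 : Vz Z L i ≤ normalizer (X : Set G) := by
    refine le_trans ((s.Vz_le i).trans (s.W_comm i)) ?_
    exact (cent_mono inf_le_left).trans (centralizer_le_normalizer _)
  have h1 : w ∈ ((Vz Z L i ⊔ X : Subgroup G) : Set G) := e.gen s hw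
  rw [Subgroup.coe_mul_of_left_le_normalizer_right _ _ h0, Set.mem_mul] at h1
  obtain ⟨v, hv, c, hc, rfl⟩ := h1
  have h2 : b * c = c * b := (mem_centralizer_iff.1 hc.2 b hb)
  have h3 : b * (v * c) * b⁻¹ * (v * c)⁻¹ = b * v * b⁻¹ * v⁻¹ := by
    have e1 : b * (v * c) * b⁻¹ = (b * v * b⁻¹) * c := by
      have e2 : b * c * b⁻¹ = c := by rw [h2]; group
      calc _ = (b * v * b⁻¹) * (b * c * b⁻¹) := by group
        _ = _ := by rw [e2]
    rw [e1]
    group
  rw [h3]
  exact mul_mem (cj_mem (e.norm_Vz s) hb hv) (inv_mem hv)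

/-- (NO) for the subgroups of `B` on `W` -/
theorem sub {A : Subgroup G} (hA : A ≤ B) :
    (centralizer (W L Gr i : Set G)).relIndex A ≤ (centralizer (A : Set G)).relIndex (W L Gr i) :=
  (s.side i (hA.trans e.le) fun a ha => e.sq a (hA ha)).1

/-- (NO) for the subgroups of `B` on `Vz` -/
theorem subV {A : Subgroup G} (hA : A ≤ B) :
    (centralizer (W L Gr i : Set G)).relIndex A ≤ (centralizer (A : Set G)).relIndex (Vz Z L i) := by
  have h1 := s.ml i A (hA.trans e.le) fun a ha => e.sq a (hA ha)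
  refine le_trans (le_of_eq (rel_congr ?_)) h1
  refine le_antisymm (le_inf (inf_le_left.trans (cent_mono (s.Vz_le i))) inf_le_right) ?_
  exact le_inf ((le_inf (inf_le_right.trans hA) inf_le_left).trans e.cen) inf_le_right

/-- **(4)** every subgroup `Y` of `W` : `|Y : C_Y(B)| ≤ |B : C_B(Y)|` -/
theorem any {Y : Subgroup G} (hY : Y ≤ W L Gr i) :
    (centralizer (B : Set G)).relIndex Y ≤ (centralizer (Y : Set G)).relIndex B := by
  set A := B ⊓ centralizer (Y : Set G) with hA
  have h1 := e.sub s (inf_le_left : A ≤ B)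
  have h2 := step (F := B) hY
  have h3 := chain (W := W L Gr i) (inf_le_left : A ≤ B)
  have h4 : Y ≤ W L Gr i ⊓ centralizer (A : Set G) := le_inf hY (cent_symm inf_le_right)
  have h5 := rel_right h4 (centralizer (B : Set G))
  rw [← hA] at h2
  have h6 := e.exW
  rw [h2, ← h3] at h6
  set a := (centralizer (W L Gr i : Set G)).relIndex A
  set a' := (centralizer (A : Set G)).relIndex (W L Gr i)
  set c := (centralizer (B : Set G)).relIndex (W L Gr i ⊓ centralizer (A : Set G) : Subgroup G)
  set d := (centralizer (Y : Set G)).relIndex B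
  have ha : 0 < a := rel_pos _ _
  refine h5.trans ?_
  refine Nat.le_of_mul_le_mul_left ?_ ha
  calc a * c ≤ a' * c := Nat.mul_le_mul_right _ h1
    _ = c * a' := mul_comm _ _
    _ = a * d := h6.symm

/-- **(4)** `B` centralises every grid which it normalises. -/
theorem cent_grid {x : G} (hx : x ∈ L i) (hN : B ≤ normalizer ((cj x (Gr i) : Subgroup G) : Set G)) :
    B ≤ centralizer ((cj x (Gr i) : Subgroup G) : Set G) := by
  by_contra hne
  have h1 := (s.nf i).cj x B (isPGroup_of_sq e.sq) hN (fun a ha => by rw [pow_two, e.sq a ha]; exact one_mem _)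
    (fun a ha b hb => by
      have e1 : a * b = b * a := (mem_centralizer_iff.1 (comm_of_sq e.sq hb) a ha)
      rw [e1, mul_inv_cancel_right, mul_inv_cancel]; exact one_mem _) hne
  exact absurd (e.any s (cj_le_cl hx)) (not_le.2 h1)

end End

end Cfsg.Agent.Omega.NOThreeL.Loop
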